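import Groth.Agent.QSect27.Val
import Groth.Agent.QSect.Scheme
import Groth.Agent.VarDim.Scheme
import Groth.Agent.DimSpec.Scheme
import Groth.Agent.Wt.Parts
import Groth.Agent.EtStruct.Instances
import Groth.Agent.LimTop.Closure
import Groth.Prelude.Def_EGA43
import Groth.Prelude.Def_Flat

/-!
# Quasi-sections through a closed point of a fibre (non-noetherian EGA IV 14.5.3)
-/

set_option autoImplicit false
set_option linter.style.haveILetI false
universe u

open CategoryTheory AlgebraicGeometry Limits Topology IsLocalRing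
open scoped TensorProduct

noncomputable section

namespace Groth.Agent.QSect27

/-- The Krull dimension of a space bounds the length of chains of specializations. -/
theorem le_topologicalKrullDim {T : Type*} [TopologicalSpace T] [T0Space T] {n : ℕ}
    (y : Fin (n + 1) → T) (hy : ∀ i j, i ≤ j → y j ⤳ y i) (hinj : Function.Injective y) :
    (n : WithBot ℕ∞) ≤ topologicalKrullDim T := by
  have hmono : StrictMono (fun i => (⟨closure {y i}, isIrreducible_singleton.closure,
      isClosed_closure⟩ : TopologicalSpace.IrreducibleCloseds T)) := by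
    intro i j hij
    refine lt_of_le_of_ne ?_ fun h => hij.ne (hinj ?_)
    · exact closure_minimal (Set.singleton_subset_iff.mpr
        (specializes_iff_mem_closure.mp (hy i j hij.le))) isClosed_closure
    · have h' := congrArg (fun c : TopologicalSpace.IrreducibleCloseds T => (c : Set T)) h
      exact ((specializes_iff_closure_subset.mpr h'.ge).antisymm
        (specializes_iff_closure_subset.mpr h'.le)).eq
  exact Order.le_krullDim_iff.mpr ⟨LTSeries.mk n _ hmono, rfl⟩

variable {X S : Scheme.{u}} (f : X ⟶ S) [LocallyOfFiniteType f]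

attribute [local instance] specializationOrder

/-- A component of a fibre gives, in every open neighbourhood of its generic point, a chain of
specializations inside the fibre of length its dimension. -/
theorem exists_chain_of_component (s : S) (Z : Set ↥(f.base ⁻¹' {s})) (hZ : IsClosed Z)
    (z : X) (hz : z ∈ Subtype.val '' Z) (hzZ : Subtype.val '' Z ⊆ closure {z}) :
    ∃ e : ℕ, topologicalKrullDim ↥Z = e ∧ ∀ W : X.Opens, z ∈ W →
      ∃ l : LTSeries X, l.last = z ∧ (∀ i, f (l i) = s ∧ l i ∈ W) ∧ l.length = e := by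
  obtain ⟨z', hz', rfl⟩ := hz
  let k := S.residueField s
  letI : (f.fiber s).Over (Spec (CommRingCat.of k)) := ⟨f.fiberToSpecResidueField s⟩
  haveI : LocallyOfFiniteType ((f.fiber s) ↘ Spec (CommRingCat.of k)) :=
    inferInstanceAs (LocallyOfFiniteType (pullback.snd f (S.fromSpecResidueField s)))
  let E := f.fiberHomeo s
  let ξ := E.symm z'
  have hι : f.fiberι s ξ = z'.1 := congrArg Subtype.val (E.apply_symm_apply z')
  have hcl : closure ({z'} : Set ↥(f.base ⁻¹' {s})) = Z := by
    refine (closure_minimal (Set.singleton_subset_iff.mpr hz') hZ).antisymm fun w hw => ?_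
    rw [IsEmbedding.subtypeVal.closure_eq_preimage_closure_image, Set.image_singleton]
    exact hzZ ⟨w, hw, rfl⟩
  have hdim : topologicalKrullDim ↥Z = (VarDim.dimPt k (f.fiber s) ξ : WithBot ℕ∞) := by
    have h1 : E '' closure {ξ} = Z := by rw [E.image_closure, Set.image_singleton,
      E.apply_symm_apply, hcl]
    rw [← h1, ← IsHomeomorph.topologicalKrullDim_eq _ (E.image (closure {ξ})).isHomeomorph,
      QSect.topDim_closure_singleton, VarDim.height_eq_dimPt k]
    rfl
  refine ⟨_, hdim, fun W hW => ?_⟩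
  obtain ⟨y, hy, hyW, hy0⟩ := VarDim.exists_le_dimPt_eq_zero k ξ (f.fiberι s ⁻¹ᵁ W)
    (show f.fiberι s ξ ∈ W by rw [hι]; exact hW)
  obtain ⟨-, l, hlh, hll, hlen⟩ := VarDim.exists_ltSeries_of_le k hy
  rw [hy0, zero_add] at hlen
  have hlast : l.last = ξ := by
    rcases eq_or_lt_of_le hll with h | h
    · exact h
    · exfalso
      have := Order.length_le_height (show (l.snoc ξ h).last ≤ ξ by simp)
      rw [VarDim.height_eq_dimPt k] at this
      simp only [RelSeries.snoc_length] at this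
      have h2 : l.length + 1 ≤ VarDim.dimPt k (f.fiber s) ξ := ENat.natCast_le_natCast.mp this
      omega
  have hemb : IsEmbedding (f.fiberι s) := (f.fiberι s).isEmbedding
  have hstr : StrictMono (fun w : f.fiber s => f.fiberι s w) := fun a b hab =>
    lt_of_le_of_ne (Specializes.map hab.le (f.fiberι s).continuous) fun h => hab.ne (hemb.injective h)
  refine ⟨l.map _ hstr, ?_, fun i => ⟨?_, ?_⟩, hlen⟩
  · show f.fiberι s l.last = z'.1
    rw [hlast, hι]
  · have : f.fiberι s (l i) ∈ Set.range (f.fiberι s) := ⟨_, rfl⟩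
    rw [f.range_fiberι] at this
    exact this
  · have h1 : l i ⤳ y := hlh ▸ l.monotone (Fin.zero_le i)
    exact (h1.map (f.fiberι s).continuous).mem_open W.isOpen hyW

/-- Isolated points of fibres are quasi-finite. -/
theorem quasiFiniteAt_of_isolated {R B : Type u} [CommRing R] [CommRing B] [Algebra R B]
    [Algebra.FiniteType R B] (P : Ideal B) [P.IsPrime]
    (h : ∀ Q : Ideal B, Q.IsPrime → Q.comap (algebraMap R B) = P.comap (algebraMap R B) →
      (Q ≤ P ∨ P ≤ Q) → Q = P) :
    Algebra.QuasiFiniteAt R P := by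
  let P'' : PrimeSpectrum B := ⟨P, inferInstance⟩
  refine Algebra.QuasiFiniteAt.of_isOpen_singleton_fiber (R := R) P'' ?_
  let p' := P''.comap (algebraMap R B)
  haveI := p'.isPrime
  let H := PrimeSpectrum.preimageHomeomorphFiber R B p'
  haveI : IsNoetherianRing (p'.asIdeal.Fiber B) :=
    Algebra.FiniteType.isNoetherianRing p'.asIdeal.ResidueField _
  haveI : IsJacobsonRing (p'.asIdeal.Fiber B) :=
    isJacobsonRing_of_finiteType (A := p'.asIdeal.ResidueField)
  rw [← H.isOpen_image, Set.image_singleton,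
    (PrimeSpectrum.isOpen_singleton_tfae_of_isNoetherian_of_isJacobsonRing _).out 0 2 rfl rfl]
  have huniq : ∀ z : PrimeSpectrum.comap (algebraMap R B) ⁻¹' {p'},
      z.1 ≤ P'' ∨ P'' ≤ z.1 → z.1 = P'' := fun z hz =>
    PrimeSpectrum.ext (h z.1.asIdeal z.1.isPrime (congrArg PrimeSpectrum.asIdeal z.2) hz)
  let E := PrimeSpectrum.preimageOrderIsoFiber R B p'
  have hHE : ∀ z, H z = E z := fun _ => rfl
  refine ⟨?_, ?_⟩
  · rw [PrimeSpectrum.isClosed_singleton_iff_isMaximal, ← PrimeSpectrum.isMax_iff]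
    intro z hz
    obtain ⟨z, rfl⟩ := E.surjective z
    rw [hHE] at hz ⊢
    exact E.le_iff_le.mpr (huniq z (Or.inr (E.le_iff_le.mp hz))).le
  · intro x y hyx hx
    rw [Set.mem_singleton_iff] at hx ⊢
    subst hx
    obtain ⟨z, rfl⟩ := E.surjective y
    rw [hHE]
    refine congrArg E (Subtype.ext (huniq z (Or.inl ?_)))
    exact E.le_iff_le.mp ((PrimeSpectrum.le_iff_specializes _ _).mpr hyx)

/-- Points over which a morphism is open lift generic points of valuation rings. -/
theorem exists_le_comap_bot {R C : Type u} [CommRing R] [IsDomain R] [IsLocalRing R] [CommRing C]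
    [Algebra R C] {Y : Scheme.{u}} (j : Spec (CommRingCat.of C) ⟶ Y) [IsOpenImmersion j]
    (π : Y ⟶ Spec (CommRingCat.of R))
    (hj : j ≫ π = Spec.map (CommRingCat.ofHom (algebraMap R C)))
    (q : PrimeSpectrum C) (hq : q.asIdeal.comap (algebraMap R C) = maximalIdeal R)
    (hopen : EGA43.IsOpenAt π.base (j q)) :
    ∃ Q ≤ q.asIdeal, Q.IsPrime ∧ Q.comap (algebraMap R C) = ⊥ := by
  classical
  let M : Submonoid C := Algebra.algebraMapSubmonoid C (nonZeroDivisors R) ⊔ q.asIdeal.primeCompl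
  by_cases h0 : (0 : C) ∈ M
  · exfalso
    obtain ⟨u, hu, v, hv, huv⟩ := Submonoid.mem_sup.mp h0
    obtain ⟨c, hc, rfl⟩ := hu
    have hπ : ∀ w, π (j w) = PrimeSpectrum.comap (algebraMap R C) w := fun w => by
      rw [← Scheme.Hom.comp_apply, hj]
      rfl
    let N : Set Y := j '' (PrimeSpectrum.basicOpen v : Set (PrimeSpectrum C))
    have hN : N ∈ nhds (j q) :=
      (j.isOpenEmbedding.isOpenMap _ (PrimeSpectrum.basicOpen v).isOpen).mem_nhds ⟨q, hv, rfl⟩
    have h1 := hopen N hN
    have hpt : π.base (j q) = closedPoint R := (hπ q).trans (PrimeSpectrum.ext hq)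
    rw [hpt] at h1
    obtain ⟨O, hON, hO, hcO⟩ := mem_nhds_iff.mp h1
    have hgen : (⟨⊥, Ideal.isPrime_bot⟩ : PrimeSpectrum R) ∈ O :=
      ((PrimeSpectrum.le_iff_specializes _ _).mp
        (show (⟨⊥, Ideal.isPrime_bot⟩ : PrimeSpectrum R) ≤ closedPoint R from
          bot_le (a := maximalIdeal R))).mem_open hO hcO
    obtain ⟨_, ⟨w, hw, rfl⟩, hwy⟩ := hON hgen
    have h2 : algebraMap R C c ∈ w.asIdeal :=
      (w.isPrime.mem_or_mem (show algebraMap R C c * v ∈ w.asIdeal by rw [huv]; exact zero_mem _)).resolve_right hw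
    have h3 : c ∈ (⊥ : Ideal R) := by
      have h4 : PrimeSpectrum.comap (algebraMap R C) w = ⟨⊥, Ideal.isPrime_bot⟩ := (hπ w).symm.trans hwy
      rw [← show w.asIdeal.comap (algebraMap R C) = ⊥ from congrArg PrimeSpectrum.asIdeal h4]
      exact h2
    exact nonZeroDivisors.ne_zero hc ((Submodule.mem_bot _).mp h3)
  · obtain ⟨Q, hQ, -, hdis⟩ := Ideal.exists_le_prime_disjoint (I := (⊥ : Ideal C)) M (by
      rw [Set.disjoint_left]
      intro a ha haM
      exact h0 ((Submodule.mem_bot _).mp ha ▸ haM))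
    refine ⟨Q, fun a ha => by_contra fun h => Set.disjoint_left.mp hdis ha
      (Submonoid.mem_sup_right h), hQ, le_antisymm (fun c hc => ?_) bot_le⟩
    by_contra hne
    exact Set.disjoint_left.mp hdis hc
      (Submonoid.mem_sup_left ⟨c, mem_nonZeroDivisors_of_ne_zero fun h => hne (by simp [h]), rfl⟩)

omit f in
theorem app_eq {A B C : Scheme.{u}} {f₁ : A ⟶ B} {f₂ : B ⟶ C} {k : A ⟶ C} (h : f₁ ≫ f₂ = k) (a : A) :
    f₂ (f₁ a) = k a := by subst h; rfl

omit f in
/-- A constructible set of an open affine containing all generalizations of a point is a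
neighbourhood of it. -/
theorem mem_nhds_of_generizations {U : Scheme.{u}} (A : Set U) (hA : IsLocallyConstructible A) (u : U)
    (h : ∀ u₁, u₁ ⤳ u → u₁ ∈ A) : A ∈ nhds u := by
  obtain ⟨V, hV, huV, -⟩ := exists_isAffineOpen_mem_and_subset (show u ∈ (⊤ : U.Opens) from trivial)
  haveI : IsAffine (V : Scheme.{u}) := hV
  have hC : IsConstructible (V.ι ⁻¹' A)ᶜ :=
    ((hA.preimage_of_isOpenEmbedding V.ι.isOpenEmbedding).isConstructible).compl
  by_contra hn
  have hcl : (⟨u, huV⟩ : ↥(V : Scheme.{u})) ∈ closure (V.ι ⁻¹' A)ᶜ := by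
    rw [← Set.preimage_compl]
    refine (V.ι.isOpenEmbedding.isOpenMap.preimage_closure_eq_closure_preimage V.ι.continuous Aᶜ).subset ?_
    show u ∈ closure Aᶜ
    rw [closure_compl]
    exact fun h' => hn (mem_interior_iff_mem_nhds.mp h')
  obtain ⟨w, hw, hwu⟩ := LimTop.exists_specializes_of_mem_closure
    (fun x => ⟨Set.univ, isOpen_univ, trivial, {Subtype.val ⁻¹' (V.ι ⁻¹' A)ᶜ}, fun T hT => by
      rw [Set.mem_singleton_iff.1 hT]
      exact hC.isLocallyConstructible.preimage_of_isOpenEmbedding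
        isOpen_univ.isOpenEmbedding_subtypeVal,
      (Set.sInter_singleton _).symm⟩) hcl
  exact hw (h _ (hwu.map V.ι.continuous))

omit [LocallyOfFiniteType f] in
set_option maxHeartbeats 2000000 in
/-- Quasi-sections through a closed point of a fibre. -/
theorem exists_quasiSection [LocallyOfFinitePresentation f] (s : S) (x : X) (hxs : f x = s)
    (hx : ∀ x' : X, f x' = s → x ⤳ x' → x' = x) (z : X) (hzs : f z = s) (hzx : z ⤳ x)
    (hopen : EGA43.IsUnivOpenAt f z) (e : ℕ)
    (hle : ∀ l : LTSeries X, (∀ i, f (l i) = s) → l.head = x → l.length ≤ e)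
    (hge : ∀ W : X.Opens, z ∈ W →
      ∃ l : LTSeries X, l.last = z ∧ (∀ i, f (l i) = s ∧ l i ∈ W) ∧ l.length = e) :
    ∃ (S' S'' : Scheme.{u}) (_ : IsAffine S') (w : S' ⟶ S) (π : S'' ⟶ S') (h : S'' ⟶ X),
      Etale w ∧ IsFinite π ∧ Surjective π ∧ LocallyOfFinitePresentation π ∧ h ≫ f = π ≫ w ∧
      ∃ s'' : S'', (π ≫ w).base ⁻¹' {s} = {s''} ∧ h.base s'' = x ∧
        IsIso (h.residueFieldMap s'') := by
  classical
  subst hxs
  obtain ⟨V, hV, hsV, -⟩ := exists_isAffineOpen_mem_and_subset (U := ⊤) (x := f x) trivial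
  obtain ⟨W, hW, hxW, eWsub⟩ := exists_isAffineOpen_mem_and_subset (U := f ⁻¹ᵁ V) (x := x) hsV
  have eW : W ≤ f ⁻¹ᵁ V := eWsub
  have hzW : z ∈ W := hzx.mem_open W.isOpen hxW
  letI algAB : Algebra Γ(S, V) Γ(X, W) := (f.appLE V W eW).hom.toAlgebra
  haveI hfp : Algebra.FinitePresentation Γ(S, V) Γ(X, W) := f.finitePresentation_appLE hV hW eW
  obtain ⟨P, hP⟩ := DimSpec.exists_fromSpec hW hxW
  obtain ⟨q, hq⟩ := DimSpec.exists_fromSpec hW hzW
  have hover : ∀ a b : PrimeSpectrum Γ(X, W),
      f (hW.fromSpec a) = f (hW.fromSpec b) ↔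
        a.asIdeal.comap (algebraMap Γ(S, V) Γ(X, W)) = b.asIdeal.comap (algebraMap Γ(S, V) Γ(X, W)) := fun a b => by
    rw [DimSpec.app_fromSpec hV hW eW, DimSpec.app_fromSpec hV hW eW]
    exact hV.fromSpec.isOpenEmbedding.injective.eq_iff.trans PrimeSpectrum.ext_iff
  have hle_iff : ∀ a b : PrimeSpectrum Γ(X, W), a ≤ b ↔ hW.fromSpec a ⤳ hW.fromSpec b := fun a b =>
    (PrimeSpectrum.le_iff_specializes a b).trans hW.fromSpec.isOpenEmbedding.isEmbedding.specializes_iff.symm
  haveI := P.isPrime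
  haveI := q.isPrime
  let p : Ideal Γ(S, V) := P.asIdeal.comap (algebraMap Γ(S, V) Γ(X, W))
  haveI : p.IsPrime := Ideal.comap_isPrime _ _
  have hp : hV.fromSpec (⟨p, inferInstance⟩ : PrimeSpectrum Γ(S, V)) = f x := by
    rw [← hP, DimSpec.app_fromSpec hV hW eW]
    rfl
  have hqp : q.asIdeal.comap (algebraMap Γ(S, V) Γ(X, W)) = p :=
    (hover q P).mp (by rw [hq, hP, hzs])
  have hqP : q.asIdeal ≤ P.asIdeal := (hle_iff q P).mpr (by rw [hq, hP]; exact hzx)
  -- parameters
  obtain ⟨a, haP, hmin⟩ := QSect.exists_params (A := Γ(S, V)) P.asIdeal (e := e) fun l hl hlast => by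
    have hstr : StrictMono (fun j : Fin (l.length + 1) => hW.fromSpec (l j.rev)) := fun i j hij => by
      have h0 := l.strictMono (Fin.rev_lt_rev.mpr hij)
      exact lt_of_le_of_ne ((hle_iff _ _).mp h0.le) fun h => h0.ne' (hW.fromSpec.isOpenEmbedding.injective h)
    refine hle (LTSeries.mk l.length _ hstr) (fun i => ?_) ?_
    · show f (hW.fromSpec (l _)) = f x
      rw [← hP]
      exact (hover _ _).mpr (hl _)
    · show hW.fromSpec (l (Fin.rev 0)) = x
      rw [Fin.rev_zero, ← hP]
      exact congrArg _ (PrimeSpectrum.ext hlast)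
  have hiso : ∀ Q : Ideal Γ(X, W), Q.IsPrime →
      Q.comap (algebraMap Γ(S, V) Γ(X, W)) = p → (∀ j, a j ∈ Q) →
      (Q ≤ P.asIdeal ∨ P.asIdeal ≤ Q) → Q = P.asIdeal := fun Q hQ hQp haQ hQP => by
    rcases hQP with h | h
    · exact hmin Q hQ hQp haQ h
    · have h1 := hx (hW.fromSpec ⟨Q, hQ⟩) (by rw [← hP]; exact (hover _ _).mpr hQp)
        (by rw [← hP]; exact (hle_iff P ⟨Q, hQ⟩).mp h)
      rw [← hP] at h1
      exact congrArg PrimeSpectrum.asIdeal (hW.fromSpec.isOpenEmbedding.injective h1)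
  -- integrality over the polynomial ring
  obtain ⟨r, hrP, hr⟩ : ∃ r ∉ P.asIdeal,
      letI := (MvPolynomial.aeval (R := Γ(S, V)) a).toRingHom.toAlgebra
      ∀ c, ∃ m, IsIntegral (MvPolynomial (Fin e) Γ(S, V)) (r ^ m * c) := by
    letI := (MvPolynomial.aeval (R := Γ(S, V)) a).toRingHom.toAlgebra
    let A' := MvPolynomial (Fin e) Γ(S, V)
    haveI : IsScalarTower Γ(S, V) A' Γ(X, W) :=
      IsScalarTower.of_algebraMap_eq fun c => (MvPolynomial.aeval_C a c).symm
    haveI : Algebra.FiniteType A' Γ(X, W) := .of_restrictScalars_finiteType Γ(S, V) A' Γ(X, W)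
    haveI : Algebra.QuasiFiniteAt A' P.asIdeal := quasiFiniteAt_of_isolated P.asIdeal fun Q hQ hQA hQP => by
      refine hiso Q hQ ?_ (fun j => ?_) hQP
      · have h1 := congrArg (fun I => Ideal.comap (algebraMap Γ(S, V) A') I) hQA
        simp only [Ideal.comap_comap, ← IsScalarTower.algebraMap_eq] at h1
        exact h1
      · have h1 : (MvPolynomial.X j : A') ∈ P.asIdeal.comap (algebraMap A' Γ(X, W)) := by
          show MvPolynomial.aeval a (MvPolynomial.X j) ∈ P.asIdeal
          rw [MvPolynomial.aeval_X]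
          exact haP j
        rw [← hQA] at h1
        have h2 : MvPolynomial.aeval a (MvPolynomial.X j : A') ∈ Q := h1
        rwa [MvPolynomial.aeval_X] at h2
    exact (Algebra.zariskisMainProperty_iff' (R := A')).mp
      (Algebra.ZariskisMainProperty.of_finiteType (R := A') P.asIdeal)
  -- independence of the parameters on the component
  have hindep : ∀ G : MvPolynomial (Fin e) Γ(S, V), MvPolynomial.aeval a G ∈ q.asIdeal →
      ∀ m, MvPolynomial.coeff m G ∈ p := by
    obtain ⟨l, hlast, hl, hlen⟩ := hge W hzW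
    choose pr hpr using fun i => DimSpec.exists_fromSpec hW (hl i).2
    have hstr : StrictMono (fun j : Fin (l.length + 1) => pr j.rev) := fun i j hij => by
      have h0 := l.strictMono (Fin.rev_lt_rev.mpr hij)
      refine lt_of_le_of_ne ((hle_iff _ _).mpr (by rw [hpr, hpr]; exact h0.le)) fun h => ?_
      exact h0.ne' (by rw [← hpr, ← hpr]; exact congrArg _ h)
    refine indep_of_chain a P.asIdeal r hrP hr p q.asIdeal hqP hqp
      (LTSeries.mk l.length _ hstr) ?_ (fun i => ?_) hlen
    · show (pr (Fin.rev 0)).asIdeal = q.asIdeal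
      rw [Fin.rev_zero]
      refine congrArg PrimeSpectrum.asIdeal (hW.fromSpec.isOpenEmbedding.injective ?_)
      rw [hpr, hq]
      exact hlast
    · show (pr i.rev).asIdeal.comap _ = _
      exact (hover _ P).mp ((congrArg f (hpr _)).trans ((hl _).1.trans (congrArg f hP.symm)))
  -- the closed subscheme cut out by the parameters
  let I : Ideal Γ(X, W) := Ideal.span (Set.range a)
  let Bb := Γ(X, W) ⧸ I
  have hIP : I ≤ P.asIdeal := Ideal.span_le.mpr (by rintro _ ⟨j, rfl⟩; exact haP j)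
  haveI : Algebra.FinitePresentation Γ(S, V) Bb :=
    Algebra.FinitePresentation.quotient (Submodule.fg_span (Set.finite_range a))
  let T := Spec (CommRingCat.of Bb)
  let i : T ⟶ X := Spec.map (CommRingCat.ofHom (Ideal.Quotient.mk I)) ≫ hW.fromSpec
  let ψ : Spec (CommRingCat.of Bb) ⟶ Spec Γ(S, V) :=
    Spec.map (CommRingCat.ofHom (algebraMap Γ(S, V) Bb))
  let g₀ : T ⟶ S := ψ ≫ hV.fromSpec
  haveI : IsOpenImmersion hV.fromSpec := IsAffineOpen.isOpenImmersion_fromSpec _
  haveI : IsOpenImmersion hW.fromSpec := IsAffineOpen.isOpenImmersion_fromSpec _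
  haveI : LocallyOfFinitePresentation ψ := by
    rw [HasRingHomProperty.Spec_iff (P := @LocallyOfFinitePresentation)]
    exact RingHom.finitePresentation_algebraMap.mpr inferInstance
  haveI : LocallyOfFinitePresentation g₀ :=
    inferInstanceAs (LocallyOfFinitePresentation (ψ ≫ hV.fromSpec))
  have hif : i ≫ f = g₀ := by
    simp only [i, g₀, ψ, Category.assoc, ← IsAffineOpen.SpecMap_appLE_fromSpec f hV hW eW,
      ← Spec.map_comp_assoc]
    congr 2
  let Pb : PrimeSpectrum Bb := ⟨P.asIdeal.map (Ideal.Quotient.mk I),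
    Ideal.map_isPrime_of_surjective Ideal.Quotient.mk_surjective (by rwa [Ideal.mk_ker])⟩
  haveI := Pb.isPrime
  have hPbc : Pb.asIdeal.comap (Ideal.Quotient.mk I) = P.asIdeal := by
    rw [Ideal.comap_map_of_surjective _ Ideal.Quotient.mk_surjective, ← RingHom.ker_eq_comap_bot,
      Ideal.mk_ker, sup_eq_left]
    exact hIP
  let xb : T := Pb
  have hxb : i xb = x := by
    show hW.fromSpec (Pb.comap (Ideal.Quotient.mk I)) = x
    rw [← hP]
    exact congrArg _ (PrimeSpectrum.ext hPbc)
  have hgxb : g₀ xb = f x := by rw [← hif, Scheme.Hom.comp_apply, hxb]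
  have hqfT : g₀.QuasiFiniteAt xb := by
    haveI : Algebra.QuasiFiniteAt Γ(S, V) Pb.asIdeal := quasiFiniteAt_of_isolated Pb.asIdeal fun Q hQ hQA hQP => by
      have hQ' : (Q.comap (Ideal.Quotient.mk I)).IsPrime := Ideal.comap_isPrime _ _
      have h1 : Q.comap (Ideal.Quotient.mk I) = P.asIdeal := by
        refine hiso _ hQ' ?_ (fun j => ?_) ?_
        · show _ = P.asIdeal.comap _
          rw [← hPbc, Ideal.comap_comap, Ideal.comap_comap]
          exact hQA
        · rw [Ideal.mem_comap, Ideal.Quotient.eq_zero_iff_mem.mpr (show a j ∈ I from Ideal.subset_span ⟨j, rfl⟩)]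
          exact zero_mem _
        · rcases hQP with h | h
          · exact Or.inl (hPbc ▸ Ideal.comap_mono h)
          · exact Or.inr (hPbc ▸ Ideal.comap_mono h)
      rw [← Ideal.map_comap_of_surjective _ Ideal.Quotient.mk_surjective Q, h1]
    haveI : LocallyQuasiFinite hV.fromSpec := inferInstance
    rw [Scheme.Hom.quasiFiniteAt_comp_iff, Scheme.Hom.quasiFiniteAt_iff_isOpen_singleton_asFiber,
      ← (ψ.fiberHomeo (ψ xb)).isOpen_image, Set.image_singleton]
    have h1 := (Algebra.quasiFiniteAt_iff_isOpen_singleton_fiber (R := Γ(S, V)) Pb).mp inferInstance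
    simp only [Scheme.Hom.asFiber, Homeomorph.apply_symm_apply]
    exact h1
  -- the finite part after étale localisation
  obtain ⟨U, g, u, hn, W₀, z₀, hW₀⟩ :=
    Wt.Parts.exists_finParts g₀ (f x) PUnit.{1} (fun _ => xb) (fun _ => hgxb) (fun _ => hqfT)
  obtain ⟨hfin, hz₀⟩ := hW₀ PUnit.unit
  generalize W₀ PUnit.unit = W₁ at hfin
  generalize z₀ PUnit.unit = z₁ at hfin hz₀
  haveI := hn.etale
  haveI : IsFinite (W₁.ι ≫ pullback.snd g₀ g) := hfin.finite
  obtain ⟨z₂, ⟨hz₂x, hz₂u, hz₂b⟩, hz₂uniq⟩ :=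
    Wt.EtNbhd.existsUnique_lift g₀ g xb u (hgxb.trans hn.base_eq.symm) hn.residue_bijective
  have hz₁₂ : z₁ = z₂ := hz₂uniq z₁ hz₀ hfin.map_eq
  subst hz₁₂
  -- the image of the finite part is a neighbourhood
  let πW : (W₁ : Scheme.{u}) ⟶ U := W₁.ι ≫ pullback.snd g₀ g
  have hlift : ∀ u₁, u₁ ⤳ u → u₁ ∈ Set.range πW := fun u₁ hu₁ => by
    let O := U.presheaf.stalk u
    obtain ⟨q₁, hq₁⟩ := Scheme.range_fromSpecStalk.ge (show u₁ ∈ {y | y ⤳ u} from hu₁)
    let q₁' : PrimeSpectrum O := q₁
    obtain ⟨R, g', hg', hRu⟩ := exists_valuationSubring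
      (algebraMap O q₁'.asIdeal.ResidueField) (maximalIdeal O)
      (IsLocalRing.le_maximalIdeal (RingHom.ker_isPrime _).ne_top)
    let c : Spec (CommRingCat.of R) ⟶ U := Spec.map (CommRingCat.ofHom g') ≫ U.fromSpecStalk u
    have hc0 : c (closedPoint R) = u := by
      show U.fromSpecStalk u (PrimeSpectrum.comap g' (closedPoint R)) = u
      rw [show PrimeSpectrum.comap g' (closedPoint R) = closedPoint O from PrimeSpectrum.ext hRu]
      exact Scheme.fromSpecStalk_closedPoint
    have hc1 : c (⟨⊥, Ideal.isPrime_bot⟩ : PrimeSpectrum R) = u₁ := by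
      show U.fromSpecStalk u (PrimeSpectrum.comap g' ⟨⊥, Ideal.isPrime_bot⟩) = u₁
      rw [show PrimeSpectrum.comap g' (⟨⊥, Ideal.isPrime_bot⟩ : PrimeSpectrum R) = q₁' from ?_]
      · exact hq₁
      refine PrimeSpectrum.ext ?_
      show Ideal.comap g' ⊥ = q₁'.asIdeal
      rw [← RingHom.ker_eq_comap_bot]
      refine (RingHom.ker_comp_of_injective g' R.subtype_injective).symm.trans ?_
      rw [hg']
      exact Ideal.ker_algebraMap_residueField _
    -- the map to the affine open of the base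
    have hrng : Set.range (c ≫ g) ⊆ Set.range hV.fromSpec := by
      rintro _ ⟨t, rfl⟩
      rw [hV.range_fromSpec]
      have h1 : t ⤳ closedPoint R := IsLocalRing.specializes_closedPoint t
      have h2 := h1.map (c ≫ g).continuous
      rw [Scheme.Hom.comp_apply c g (closedPoint R), hc0, hn.base_eq] at h2
      exact h2.mem_open V.isOpen hsV
    obtain ⟨ρ, hρ⟩ := Spec.map_surjective (IsOpenImmersion.lift hV.fromSpec (c ≫ g) hrng)
    have hρc : Spec.map ρ ≫ hV.fromSpec = c ≫ g := by rw [hρ]; exact IsOpenImmersion.lift_fac _ _ _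
    letI algAR : Algebra Γ(S, V) R := ρ.hom.toAlgebra
    have hAR : (maximalIdeal R).comap (algebraMap Γ(S, V) R) = p := by
      refine congrArg PrimeSpectrum.asIdeal (hV.fromSpec.isOpenEmbedding.injective
        (a₁ := PrimeSpectrum.comap ρ.hom (closedPoint R)) (a₂ := (⟨p, inferInstance⟩ : PrimeSpectrum Γ(S, V))) ?_)
      rw [hp]
      show (Spec.map ρ ≫ hV.fromSpec) (closedPoint R) = f x
      rw [hρc]
      exact (congrArg g hc0).trans hn.base_eq
    let BR := (R : Type u) ⊗[Γ(S, V)] Γ(X, W)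
    let inB : Γ(X, W) →+* BR :=
      (Algebra.TensorProduct.includeRight (R := Γ(S, V)) (A := (R : Type u))).toRingHom
    have hinB : inB.comp (algebraMap Γ(S, V) Γ(X, W)) = (algebraMap R BR).comp ρ.hom :=
      RingHom.ext fun d => by
        show (1 : R) ⊗ₜ[Γ(S, V)] algebraMap Γ(S, V) Γ(X, W) d = algebraMap Γ(S, V) R d ⊗ₜ 1
        exact (Algebra.TensorProduct.tmul_one_eq_one_tmul d).symm
    obtain ⟨t, P', ht, hP', htP, hP'P, hP'R, htR, hat⟩ :=
      exists_prime_valuation a P.asIdeal haP r hrP hr p rfl q.asIdeal hqP hqp hindep R hAR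
        fun q' hq' hq'q hq'R => by
          let σ : Spec (CommRingCat.of BR) ⟶ pullback (Spec.map (CommRingCat.ofHom (algebraMap Γ(S, V) R)))
              (Spec.map (CommRingCat.ofHom (algebraMap Γ(S, V) Γ(X, W)))) :=
            (pullbackSpecIso Γ(S, V) R Γ(X, W)).inv
          have e₁ : Spec.map (CommRingCat.ofHom (algebraMap Γ(S, V) R)) ≫ hV.fromSpec =
              𝟙 _ ≫ c ≫ g := by rw [Category.id_comp, ← hρc]; rfl
          have e₂ : Spec.map (CommRingCat.ofHom (algebraMap Γ(S, V) Γ(X, W))) ≫ hV.fromSpec =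
              hW.fromSpec ≫ f := IsAffineOpen.SpecMap_appLE_fromSpec f hV hW eW
          let j : Spec (CommRingCat.of BR) ⟶ pullback f (c ≫ g) :=
            σ ≫ pullback.map _ _ (c ≫ g) f (𝟙 _) hW.fromSpec hV.fromSpec e₁ e₂ ≫
              (pullbackSymmetry _ _).hom
          haveI : IsIso σ := by dsimp only [σ]; infer_instance
          haveI : IsOpenImmersion j := by dsimp only [j]; infer_instance
          have hjf : j ≫ pullback.fst f (c ≫ g) = Spec.map (CommRingCat.ofHom inB) ≫ hW.fromSpec := by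
            simp only [j, σ, Category.assoc, pullbackSymmetry_hom_comp_fst, pullback.lift_snd,
              pullback.map, pullbackSpecIso_inv_snd_assoc]
            rfl
          have hjs : j ≫ pullback.snd f (c ≫ g) = Spec.map (CommRingCat.ofHom (algebraMap R BR)) := by
            simp only [j, σ, Category.assoc, pullbackSymmetry_hom_comp_snd, pullback.lift_fst,
              pullback.map, Category.comp_id, pullbackSpecIso_inv_fst']
          refine exists_le_comap_bot j _ hjs ⟨q', hq'⟩ hq'R (hopen _ (c ≫ g) _ ?_)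
          show pullback.fst f (c ≫ g) (j _) = z
          refine (app_eq hjf _).trans ?_
          rw [← hq]
          exact congrArg hW.fromSpec (PrimeSpectrum.ext hq'q)
    -- the point of the finite part
    let Dt := BR ⧸ t
    haveI : IsDomain Dt := Ideal.Quotient.isDomain _
    let χ : Bb →+* Dt := Ideal.Quotient.lift I ((Ideal.Quotient.mk t).comp inB) fun b hb => by
      have h1 : I ≤ RingHom.ker ((Ideal.Quotient.mk t).comp inB) := Ideal.span_le.mpr (by
        rintro _ ⟨k, rfl⟩
        exact Ideal.Quotient.eq_zero_iff_mem.mpr (hat k))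
      exact h1 hb
    let τ : Spec (CommRingCat.of Dt) ⟶ T := Spec.map (CommRingCat.ofHom χ)
    let υ : Spec (CommRingCat.of Dt) ⟶ U :=
      Spec.map (CommRingCat.ofHom ((Ideal.Quotient.mk t).comp (algebraMap R BR))) ≫ c
    have hτυ : τ ≫ g₀ = υ ≫ g := by
      simp only [τ, υ, g₀, ψ, Category.assoc, ← hρc, ← Spec.map_comp_assoc]
      congr 2
      refine CommRingCat.hom_ext (RingHom.ext fun d => ?_)
      exact congrArg (Ideal.Quotient.mk t) (RingHom.congr_fun hinB d)
    let κ : Spec (CommRingCat.of Dt) ⟶ pullback g₀ g := pullback.lift τ υ hτυ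
    let d₁ : PrimeSpectrum Dt := ⟨P'.map (Ideal.Quotient.mk t),
      Ideal.map_isPrime_of_surjective Ideal.Quotient.mk_surjective (by rwa [Ideal.mk_ker])⟩
    let d₀ : PrimeSpectrum Dt := ⟨⊥, Ideal.isPrime_bot⟩
    have hd₁ : d₁.asIdeal.comap (Ideal.Quotient.mk t) = P' := by
      rw [Ideal.comap_map_of_surjective _ Ideal.Quotient.mk_surjective, ← RingHom.ker_eq_comap_bot,
        Ideal.mk_ker, sup_eq_left]
      exact htP
    have hκ₁ : κ d₁ = z₁ := by
      refine hz₂uniq _ ?_ ?_
      · refine (app_eq (pullback.lift_fst τ υ hτυ) _).trans ?_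
        refine PrimeSpectrum.ext ?_
        show d₁.asIdeal.comap χ = Pb.asIdeal
        rw [← Ideal.map_comap_of_surjective _ Ideal.Quotient.mk_surjective (d₁.asIdeal.comap χ),
          Ideal.comap_comap, show χ.comp (Ideal.Quotient.mk I) = (Ideal.Quotient.mk t).comp inB from
            Ideal.Quotient.lift_comp_mk _ _ _, ← Ideal.comap_comap, hd₁, hP'P]
      · refine (app_eq (pullback.lift_snd τ υ hτυ) _).trans ?_
        rw [← hc0]
        show c (PrimeSpectrum.comap ((Ideal.Quotient.mk t).comp (algebraMap R BR)) d₁) = c (closedPoint R)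
        refine congrArg c (PrimeSpectrum.ext ?_)
        show d₁.asIdeal.comap ((Ideal.Quotient.mk t).comp (algebraMap R BR)) = maximalIdeal R
        rw [← Ideal.comap_comap, hd₁, hP'R]
    have hmem : κ d₀ ∈ W₁ := by
      have h1 : κ d₁ ∈ W₁ := hκ₁ ▸ hfin.mem
      exact (((PrimeSpectrum.le_iff_specializes d₀ d₁).mp (bot_le (a := d₁.asIdeal))).map
        κ.continuous).mem_open W₁.isOpen h1
    refine ⟨⟨κ d₀, hmem⟩, ?_⟩
    show pullback.snd g₀ g (κ d₀) = u₁
    refine (app_eq (pullback.lift_snd τ υ hτυ) _).trans ?_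
    rw [← hc1]
    show c (PrimeSpectrum.comap ((Ideal.Quotient.mk t).comp (algebraMap R BR)) d₀) = _
    refine congrArg c (PrimeSpectrum.ext ?_)
    show (⊥ : Ideal Dt).comap ((Ideal.Quotient.mk t).comp (algebraMap R BR)) = ⊥
    rw [← Ideal.comap_comap, ← RingHom.ker_eq_comap_bot, Ideal.mk_ker, htR]
  haveI : LocallyOfFinitePresentation πW :=
    inferInstanceAs (LocallyOfFinitePresentation (W₁.ι ≫ pullback.snd g₀ g))
  haveI : IsFinite πW := hfin.finite
  have hnhds : Set.range πW ∈ nhds u := by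
    refine mem_nhds_of_generizations _ ?_ u hlift
    rw [← Set.image_univ]
    exact πW.isLocallyConstructible_image IsLocallyConstructible.univ
  -- shrink
  haveI : LocallyQuasiFinite g := EtStruct.locallyQuasiFinite_of_formallyUnramified g
  obtain ⟨N, hN, hNs⟩ : ∃ N : U.Opens, u ∈ N ∧ ∀ w ∈ N, g w = f x → w = u := by
    have hd := g.isDiscrete_preimage_singleton (f x)
    haveI := isDiscrete_iff_discreteTopology.mp hd
    obtain ⟨O, hO, hOu⟩ :=
      isOpen_induced_iff.mp (isOpen_discrete ({⟨u, hn.base_eq⟩} : Set ↥(g ⁻¹' {f x})))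
    refine ⟨⟨O, hO⟩, ?_, fun w hw hwx => ?_⟩
    · exact (Set.ext_iff.mp hOu ⟨u, hn.base_eq⟩).mpr rfl
    · exact congrArg Subtype.val ((Set.ext_iff.mp hOu ⟨w, hwx⟩).mp hw)
  obtain ⟨S', hS', huS', hS'sub⟩ := exists_isAffineOpen_mem_and_subset
    (U := ⟨interior (Set.range πW), isOpen_interior⟩ ⊓ N) (x := u) ⟨mem_interior_iff_mem_nhds.mpr hnhds, hN⟩
  let π := πW ∣_ S'
  haveI : IsAffine (S' : Scheme.{u}) := hS'
  let jj := (πW ⁻¹ᵁ S').ι ≫ W₁.ι ≫ pullback.fst g₀ g
  refine ⟨S', _, inferInstance, S'.ι ≫ g, π, jj ≫ i, inferInstance,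
    MorphismProperty.of_isPullback (P := @IsFinite) (isPullback_morphismRestrict πW S').flip inferInstance, ⟨fun w => ?_⟩, inferInstance, ?_, ?_⟩
  · obtain ⟨v, hv⟩ := interior_subset (hS'sub w.2).1
    refine ⟨⟨v, show πW v ∈ S' by rw [hv]; exact w.2⟩, Subtype.ext ?_⟩
    rw [morphismRestrict_base]
    exact hv
  · simp only [jj, π, Category.assoc, hif, morphismRestrict_ι_assoc, πW, pullback.condition]
  · have hz₁S : πW ⟨z₁, hfin.mem⟩ ∈ S' := by
      show pullback.snd g₀ g z₁ ∈ S'
      rw [hfin.map_eq]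
      exact huS'
    let s'' : ↥((πW ⁻¹ᵁ S' : W₁.toScheme.Opens) : Scheme.{u}) := ⟨⟨z₁, hfin.mem⟩, hz₁S⟩
    have hπapp : ∀ v, (π ≫ S'.ι ≫ g) v = g (pullback.snd g₀ g v.1.1) := fun v => by
      rw [show π ≫ S'.ι ≫ g = (πW ⁻¹ᵁ S').ι ≫ πW ≫ g by simp [π, morphismRestrict_ι_assoc]]
      rfl
    refine ⟨s'', Set.ext fun v => ?_, ?_, ?_⟩
    · rw [Set.mem_preimage, Set.mem_singleton_iff, Set.mem_singleton_iff]
      show (π ≫ S'.ι ≫ g) v = f x ↔ v = s''
      rw [hπapp]
      refine ⟨fun hv => ?_, fun hv => by rw [hv]; exact (congrArg g hfin.map_eq).trans hn.base_eq⟩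
      have h1 : pullback.snd g₀ g v.1.1 = u := hNs _ (hS'sub v.2).2 hv
      exact Subtype.ext (Subtype.ext (hfin.unique _ v.1.2 h1))
    · show i (pullback.fst g₀ g z₁) = x
      rw [hz₂x, hxb]
    · rw [ConcreteCategory.isIso_iff_bijective]
      refine Wt.EtNbhd.residueFieldMap_bijective_comp _ _ _ ?_ ?_
      · refine Wt.EtNbhd.residueFieldMap_bijective_comp _ _ _
          (ConcreteCategory.bijective_of_isIso _) ?_
        refine Wt.EtNbhd.residueFieldMap_bijective_comp _ _ _
          (ConcreteCategory.bijective_of_isIso _) ?_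
        exact hz₂b
      · refine Wt.EtNbhd.residueFieldMap_bijective_comp _ _ _ ?_
          (ConcreteCategory.bijective_of_isIso _)
        haveI : IsClosedImmersion (Spec.map (CommRingCat.ofHom (Ideal.Quotient.mk I))) :=
          IsClosedImmersion.spec_of_surjective _ Ideal.Quotient.mk_surjective
        refine ⟨RingHom.injective _, ?_⟩
        have key : ∀ {A B : Scheme.{u}} (F : A ⟶ B) [IsClosedImmersion F] (w : A),
            Function.Surjective (F.residueFieldMap w) := fun {A B} F _ w c => by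
          obtain ⟨b, rfl⟩ := A.residue_surjective w c
          obtain ⟨b', rfl⟩ := F.stalkMap_surjective w b
          exact ⟨B.residue (F w) b', ConcreteCategory.congr_hom (Scheme.residue_residueFieldMap F w) b'⟩
        exact key _ _

end Groth.Agent.QSect27
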