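import Mathlib
import Groth.Agent.DimSpec.Core
import Groth.Agent.QSect.Core

/-!
# Quasi-sections over valuation rings

Let `B` be a finite type `A`-algebra, `P` a prime over `p` at which `B` is quasi-finite over a
polynomial ring `A[X]` with the variables in `P`, and `q ≤ P` a prime over `p` at which the
variables are independent.  If `R` is a valuation ring over `A` centred at `p` and the generic
fibre of `R ⊗ B` meets the generalizations of every point over `q`, then some point of the generic
fibre on which the variables vanish specializes to a point over `P`.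
-/

set_option autoImplicit false
set_option linter.style.haveILetI false
universe u

open scoped TensorProduct
open MvPolynomial IsLocalRing

noncomputable section

namespace Groth.Agent.QSect27

/-- A map from a ring to a field has a valuation ring centred at any prime containing its kernel. -/
theorem exists_valuationSubring {A L : Type u} [CommRing A] [Field L] (g : A →+* L) (q : Ideal A)
    [q.IsPrime] (hq : RingHom.ker g ≤ q) :
    ∃ (V : ValuationSubring L) (g' : A →+* V), V.subtype.comp g' = g ∧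
      (maximalIdeal V).comap g' = q := by
  let gl : Localization.AtPrime q →+* L :=
    IsLocalization.lift (M := q.primeCompl) (g := g)
      fun s => isUnit_iff_ne_zero.2 fun h => s.2 (hq (RingHom.mem_ker.2 h))
  obtain ⟨V, hV, hloc⟩ := IsLocalRing.exists_factor_valuationRing gl
  let gv : Localization.AtPrime q →+* V := gl.codRestrict V.toSubring hV
  refine ⟨V, gv.comp (algebraMap A _), RingHom.ext fun a => IsLocalization.lift_eq _ a, ?_⟩
  have h2 : Ideal.comap gv (maximalIdeal V) = maximalIdeal (Localization.AtPrime q) :=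
    ((IsLocalRing.local_hom_TFAE gv).out 0 4).1 hloc
  rw [← Ideal.comap_comap, h2]
  exact IsLocalization.AtPrime.under_maximalIdeal (Localization.AtPrime q) q

/-- In a valuation ring, a nonzero polynomial is a constant times a polynomial with a unit
coefficient. -/
theorem exists_unit_coeff {R : Type u} [CommRing R] [IsDomain R] [ValuationRing R] {σ : Type*}
    (f : MvPolynomial σ R) (hf : f ≠ 0) :
    ∃ (c : R) (g : MvPolynomial σ R), c ≠ 0 ∧ f = C c * g ∧ ∃ m, IsUnit (coeff m g) := by
  classical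
  have key : ∀ s : Finset (σ →₀ ℕ), s.Nonempty →
      ∃ m ∈ s, ∀ n ∈ s, coeff m f ∣ coeff n f := fun s hs => by
    induction hs using Finset.Nonempty.cons_induction with
    | singleton a => exact ⟨a, Finset.mem_singleton_self a, fun n hn => by
        rw [Finset.mem_singleton.mp hn]⟩
    | cons a s ha hs ih =>
      obtain ⟨m, hm, h⟩ := ih
      rcases ValuationRing.dvd_total (coeff m f) (coeff a f) with h' | h'
      · refine ⟨m, Finset.mem_cons_of_mem hm, fun n hn => ?_⟩
        rcases Finset.mem_cons.mp hn with rfl | hn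
        · exact h'
        · exact h n hn
      · refine ⟨a, Finset.mem_cons_self a s, fun n hn => ?_⟩
        rcases Finset.mem_cons.mp hn with rfl | hn
        · exact dvd_rfl
        · exact h'.trans (h n hn)
  obtain ⟨m, hm, h⟩ := key f.support
    (Finset.nonempty_iff_ne_empty.mpr fun h => hf (support_eq_empty.mp h))
  obtain ⟨g, hg⟩ := (C_dvd_iff_dvd_coeff (coeff m f) f).mpr fun n => by
    by_cases hn : n ∈ f.support
    · exact h n hn
    · rw [notMem_support_iff.mp hn]; exact dvd_zero _
  have hc : coeff m f ≠ 0 := mem_support_iff.mp hm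
  refine ⟨coeff m f, g, hc, hg, m, ?_⟩
  have h2 : coeff m f * coeff m g = coeff m f * 1 := by
    rw [← coeff_C_mul, ← hg, mul_one]
  rw [mul_left_cancel₀ hc h2]
  exact isUnit_one

/-- Over a valuation ring, at a point where a domain is integral over a polynomial ring there is
a prime of the generic fibre containing the variables which specializes to the point. -/
theorem exists_prime_generic {R B : Type u} [CommRing R] [IsDomain R] [ValuationRing R]
    [CommRing B] [Algebra R B] {e : ℕ} (a : Fin e → B) (P : Ideal B) [P.IsPrime]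
    (ha : ∀ j, a j ∈ P) (r : B) (hrP : r ∉ P)
    (hr : letI := (aeval (R := R) a).toRingHom.toAlgebra
      ∀ x, ∃ m, IsIntegral (MvPolynomial (Fin e) R) (r ^ m * x))
    (q : Ideal B) [q.IsPrime] (hqP : q ≤ P)
    (hq : ∀ f : MvPolynomial (Fin e) R, aeval a f ∈ q → ∀ m, coeff m f ∈ maximalIdeal R)
    (Q : Ideal B) [Q.IsPrime] (hQq : Q ≤ q) (hQR : Q.comap (algebraMap R B) = ⊥) :
    ∃ t : Ideal B, t.IsPrime ∧ t ≤ P ∧ t.comap (algebraMap R B) = ⊥ ∧ ∀ j, a j ∈ t := by
  classical
  let S := MvPolynomial (Fin e) R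
  letI algSB : Algebra S B := (aeval (R := R) a).toRingHom.toAlgebra
  let π : B →+* B ⧸ Q := Ideal.Quotient.mk Q
  let S' : Subalgebra S (B ⧸ Q) := integralClosure S (B ⧸ Q)
  have hinj : Function.Injective (algebraMap S (B ⧸ Q)) := by
    refine (injective_iff_map_eq_zero _).mpr fun f hf => by_contra fun hne => ?_
    obtain ⟨c, g, hc, hfg, m, hm⟩ := exists_unit_coeff f hne
    have h1 : aeval (R := R) a f ∈ Q := Ideal.Quotient.eq_zero_iff_mem.mp hf
    rw [hfg, map_mul, aeval_C] at h1
    rcases ‹Q.IsPrime›.mem_or_mem h1 with h2 | h2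
    · exact hc ((Ideal.ext_iff.mp hQR c).mp h2)
    · exact (IsLocalRing.mem_maximalIdeal _).mp (hq g (hQq h2) m) hm
  have : FaithfulSMul S S' := (faithfulSMul_iff_algebraMap_injective _ _).mpr fun x y h =>
    hinj (congrArg Subtype.val h)
  have : IsIntegrallyClosed S := QSect.isIntegrallyClosed_mvPolynomial R e
  have hmem : ∀ b, IsIntegral S b → π b ∈ S' := fun b hb =>
    hb.map (Ideal.Quotient.mkₐ S Q)
  have hrint : IsIntegral S r := by
    obtain ⟨m, hm⟩ := hr r
    rw [← pow_succ] at hm
    exact (IsIntegral.pow_iff m.succ_pos).mp hm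
  let rC : S' := ⟨π r, hmem r hrint⟩
  -- the trace of `P` on the integral closure
  have hPπ : (P.map π).IsPrime :=
    Ideal.map_isPrime_of_surjective Ideal.Quotient.mk_surjective
      (by rw [Ideal.mk_ker]; exact hQq.trans hqP)
  have hPc : ∀ b, π b ∈ P.map π ↔ b ∈ P := fun b => by
    rw [← Ideal.mem_comap, Ideal.comap_map_of_surjective _ Ideal.Quotient.mk_surjective,
      ← RingHom.ker_eq_comap_bot, Ideal.mk_ker, sup_eq_left.mpr (hQq.trans hqP)]
  let PC : Ideal S' := (P.map π).comap S'.val.toRingHom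
  have : PC.IsPrime := Ideal.comap_isPrime _ _
  -- the variables
  let X0 : Ideal S := RingHom.ker (constantCoeff : S →+* R)
  have : X0.IsPrime := RingHom.ker_isPrime _
  have hX0 : X0 ≤ PC.comap (algebraMap S S') := fun f hf => by
    show π (aeval (R := R) a f) ∈ P.map π
    rw [hPc, f.as_sum, map_sum]
    refine sum_mem fun m hm => ?_
    have hm0 : m ≠ 0 := fun h0 => by
      subst h0
      have h0 : constantCoeff f = 0 := RingHom.mem_ker.mp hf
      exact (mem_support_iff.mp hm) h0
    obtain ⟨k, hk⟩ := Finsupp.ne_iff.mp hm0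
    obtain ⟨m', hm'⟩ : ∃ m', m = Finsupp.single k 1 + m' := ⟨m - Finsupp.single k 1,
      (add_tsub_cancel_of_le (Finsupp.single_le_iff.mpr (Nat.one_le_iff_ne_zero.mpr hk))).symm⟩
    rw [show monomial m (coeff m f) = X k * monomial m' (coeff m f) by
      rw [X, monomial_mul, one_mul, ← hm'], map_mul, aeval_X]
    exact Ideal.mul_mem_right _ _ (ha k)
  have : (PC.comap (algebraMap S S')).IsPrime := Ideal.comap_isPrime _ _
  have : PC.LiesOver (PC.comap (algebraMap S S')) := ⟨rfl⟩
  obtain ⟨tC, htle, htprime, htover⟩ := Ideal.exists_ideal_le_liesOver_of_le (S := S') PC hX0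
  have htS : ∀ f : S, algebraMap S S' f ∈ tC ↔ f ∈ X0 := fun f =>
    (Ideal.ext_iff.mp htover.over f).symm
  have hrt : rC ∉ tC := fun h => hrP ((hPc r).mp (htle h))
  -- spread the prime to `B`
  let t : Ideal B :=
    { carrier := {b | ∀ m (h : π (r ^ m * b) ∈ S'), (⟨_, h⟩ : S') ∈ tC}
      zero_mem' := fun m h => by
        rw [show (⟨_, h⟩ : S') = 0 from Subtype.ext (by simp [π])]; exact zero_mem _
      add_mem' := fun {b c} hb hc m h => by
        obtain ⟨k, hk⟩ := hr b
        obtain ⟨l, hl⟩ := hr c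
        have h1 : rC ^ (k + l) * (⟨_, h⟩ : S') = rC ^ (m + l) * ⟨_, hmem _ hk⟩ +
            rC ^ (m + k) * ⟨_, hmem _ hl⟩ := Subtype.ext (by
          simp only [AddMemClass.coe_add, MulMemClass.coe_mul, SubmonoidClass.coe_pow, rC,
            map_add, map_mul, map_pow]
          ring)
        have h2 : rC ^ (k + l) * (⟨_, h⟩ : S') ∈ tC := by
          rw [h1]
          exact add_mem (Ideal.mul_mem_left _ _ (hb k _)) (Ideal.mul_mem_left _ _ (hc l _))
        exact (htprime.mem_or_mem h2).resolve_left fun hh => hrt (htprime.mem_of_pow_mem _ hh)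
      smul_mem' := fun c b hb m h => by
        obtain ⟨k, hk⟩ := hr b
        obtain ⟨l, hl⟩ := hr c
        have h1 : rC ^ (k + l) * (⟨_, h⟩ : S') = rC ^ m * ⟨_, hmem _ hl⟩ * ⟨_, hmem _ hk⟩ :=
          Subtype.ext (by
          simp only [MulMemClass.coe_mul, SubmonoidClass.coe_pow, rC, smul_eq_mul, map_mul, map_pow]
          ring)
        have h2 : rC ^ (k + l) * (⟨_, h⟩ : S') ∈ tC := by
          rw [h1]
          exact Ideal.mul_mem_left _ _ (hb k _)
        exact (htprime.mem_or_mem h2).resolve_left fun hh => hrt (htprime.mem_of_pow_mem _ hh) }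
  have hsat : ∀ b m (h : π (r ^ m * b) ∈ S'), (⟨_, h⟩ : S') ∈ tC → b ∈ t := fun b m h hm m' h' => by
    have h2 : rC ^ m * (⟨_, h'⟩ : S') ∈ tC := by
      rw [show rC ^ m * (⟨_, h'⟩ : S') = rC ^ m' * ⟨_, h⟩ from Subtype.ext (by
        simp only [MulMemClass.coe_mul, SubmonoidClass.coe_pow, rC, map_mul, map_pow]
        ring)]
      exact Ideal.mul_mem_left _ _ hm
    exact (htprime.mem_or_mem h2).resolve_left fun hh => hrt (htprime.mem_of_pow_mem _ hh)
  have hrnot : r ∉ t := fun h => by
    have h0 : π (r ^ 0 * r) ∈ S' := by rw [pow_zero, one_mul]; exact hmem r hrint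
    exact hrt (by simpa [rC] using h 0 h0)
  refine ⟨t, ⟨fun ht => hrnot (ht ▸ Submodule.mem_top), fun {b c} hbc => ?_⟩, fun b hb => ?_, ?_,
    fun j => ?_⟩
  · obtain ⟨k, hk⟩ := hr b
    obtain ⟨l, hl⟩ := hr c
    have h' : π (r ^ (k + l) * (b * c)) ∈ S' := by
      rw [show r ^ (k + l) * (b * c) = (r ^ k * b) * (r ^ l * c) by ring, map_mul]
      exact mul_mem (hmem _ hk) (hmem _ hl)
    have h1 := hbc (k + l) h'
    rw [show (⟨_, h'⟩ : S') = ⟨_, hmem _ hk⟩ * ⟨_, hmem _ hl⟩ from Subtype.ext (by
      simp only [MulMemClass.coe_mul, map_mul, map_pow]; ring)] at h1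
    exact (htprime.mem_or_mem h1).imp (hsat b k _) (hsat c l _)
  · obtain ⟨k, hk⟩ := hr b
    have h1 : r ^ k * b ∈ P := (hPc _).mp (htle (hb k (hmem _ hk)))
    exact (‹P.IsPrime›.mem_or_mem h1).resolve_left fun h => hrP (‹P.IsPrime›.mem_of_pow_mem _ h)
  · refine le_antisymm (fun c hc => ?_) bot_le
    have h1 : algebraMap R B c = algebraMap S B (C c) := (aeval_C a c).symm
    have h0 : π (r ^ 0 * algebraMap R B c) ∈ S' := by
      rw [pow_zero, one_mul, h1]
      exact hmem _ isIntegral_algebraMap
    have h2 : algebraMap S S' (C c) ∈ tC := by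
      rw [show algebraMap S S' (C c) = ⟨_, h0⟩ from Subtype.ext (by
        show π (algebraMap S B (C c)) = π (r ^ 0 * algebraMap R B c)
        rw [pow_zero, one_mul, h1])]
      exact hc 0 h0
    rw [htS, RingHom.mem_ker, constantCoeff_C] at h2
    exact (Submodule.mem_bot _).mpr h2
  · have h1 : a j = algebraMap S B (X j) := (aeval_X a j).symm
    have h0 : π (r ^ 0 * a j) ∈ S' := by
      rw [pow_zero, one_mul, h1]
      exact hmem _ isIntegral_algebraMap
    refine hsat _ 0 h0 ?_
    rw [show (⟨_, h0⟩ : S') = algebraMap S S' (X j) from Subtype.ext (by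
      show π (r ^ 0 * a j) = π (algebraMap S B (X j))
      rw [pow_zero, one_mul, h1])]
    exact (htS _).mpr (RingHom.mem_ker.mpr (constantCoeff_X _ j))

/-- Minimal primes of a flat base change of a domain lie over the generic points of the factors. -/
theorem comap_minimalPrime {S₀ S₁ D : Type u} [CommRing S₀] [CommRing S₁] [CommRing D]
    [IsDomain S₀] [IsDomain S₁] [IsDomain D] [Algebra S₀ S₁] [Algebra S₀ D]
    [Module.Flat S₀ S₁] (hD : Function.Injective (algebraMap S₀ D))
    (q : Ideal (S₁ ⊗[S₀] D)) (hq : q ∈ minimalPrimes (S₁ ⊗[S₀] D)) (x : S₁)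
    (hx : x ⊗ₜ[S₀] (1 : D) ∈ q) : x = 0 := by
  by_contra hx0
  let K := FractionRing S₀
  let L := FractionRing D
  let ι : D →ₗ[S₀] L := (IsScalarTower.toAlgHom S₀ D L).toLinearMap
  have hι : Function.Injective ι := IsFractionRing.injective D L
  have : FaithfulSMul S₀ L := (faithfulSMul_iff_algebraMap_injective _ _).mpr (by
    rw [IsScalarTower.algebraMap_eq S₀ D L]
    exact (IsFractionRing.injective D L).comp hD)
  letI : Algebra K L := FractionRing.liftAlgebra S₀ L
  have : Module.Flat S₀ K := IsLocalization.flat K (nonZeroDivisors S₀)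
  have : Module.Flat S₀ L := Module.Flat.trans S₀ K L
  let μ : S₁ →ₗ[S₀] S₁ := LinearMap.mulLeft S₀ x
  have h1 : Function.Injective (μ.rTensor L) :=
    Module.Flat.rTensor_preserves_injective_linearMap μ fun y z h => mul_left_cancel₀ hx0 h
  have h2 : Function.Injective (ι.lTensor S₁) :=
    Module.Flat.lTensor_preserves_injective_linearMap ι hι
  have hreg : x ⊗ₜ[S₀] (1 : D) ∈ nonZeroDivisors (S₁ ⊗[S₀] D) := by
    refine mem_nonZeroDivisors_iff_right.mpr fun z hz => h2 (h1 ?_)
    rw [map_zero, map_zero]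
    have hcomm : ∀ w, μ.rTensor L (ι.lTensor S₁ w) = ι.lTensor S₁ (w * x ⊗ₜ[S₀] (1 : D)) := fun w => by
      induction w with
      | zero => simp
      | tmul s d => simp [μ, Algebra.TensorProduct.tmul_mul_tmul, mul_comm]
      | add v w hv hw => simp [hv, hw, add_mul]
    rw [hcomm, hz, map_zero]
  exact Set.disjoint_left.mp (Ideal.disjoint_nonZeroDivisors_of_mem_minimalPrimes hq) hx hreg

/-- Parameters at a quasi-finite point are independent on a component of maximal dimension. -/
theorem indep_of_chain {A B : Type u} [CommRing A] [CommRing B] [Algebra A B]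
    [Algebra.FiniteType A B] {e : ℕ} (a : Fin e → B) (P : Ideal B) (r : B) (hrP : r ∉ P)
    (hr : letI := (aeval (R := A) a).toRingHom.toAlgebra
      ∀ x, ∃ m, IsIntegral (MvPolynomial (Fin e) A) (r ^ m * x))
    (p : Ideal A) [p.IsPrime] (q : Ideal B) [q.IsPrime] (hqP : q ≤ P)
    (hqp : q.comap (algebraMap A B) = p)
    (l : LTSeries (PrimeSpectrum B)) (hl0 : l.head.asIdeal = q)
    (hl : ∀ i, (l i).asIdeal.comap (algebraMap A B) = p) (hlen : l.length = e) :
    ∀ f : MvPolynomial (Fin e) A, aeval a f ∈ q → ∀ m, coeff m f ∈ p := by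
  classical
  subst hlen
  let A' := A ⧸ p
  let B' := B ⧸ q
  letI algAB : Algebra A' B' := (Ideal.quotientMap q (algebraMap A B) hqp.ge).toAlgebra
  haveI : IsScalarTower A A' B' := IsScalarTower.of_algebraMap_eq fun _ => rfl
  haveI : IsDomain A' := Ideal.Quotient.isDomain _
  haveI : IsDomain B' := Ideal.Quotient.isDomain _
  haveI : FaithfulSMul A' B' := (faithfulSMul_iff_algebraMap_injective _ _).mpr
    (Ideal.quotientMap_injective' (H := hqp.ge) hqp.le)
  let π : B →ₐ[A] B' := Ideal.Quotient.mkₐ A q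
  let a' : Fin l.length → B' := fun j => π (a j)
  have haev : ∀ f : MvPolynomial (Fin l.length) A,
      aeval a' (MvPolynomial.map (Ideal.Quotient.mk p) f) = π (aeval a f) := fun f => by
    rw [show Ideal.Quotient.mk p = algebraMap A A' from rfl, aeval_map_algebraMap,
      ← AlgHom.comp_apply, comp_aeval]
  suffices h : AlgebraicIndependent A' a' by
    intro f hf m
    have h1 := algebraicIndependent_iff.mp h (MvPolynomial.map (Ideal.Quotient.mk p) f)
      ((haev f).trans (Ideal.Quotient.eq_zero_iff_mem.mpr hf))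
    have h2 := congrArg (coeff m) h1
    rw [coeff_map, coeff_zero] at h2
    exact Ideal.Quotient.eq_zero_iff_mem.mp h2
  have hle : (l.length : Cardinal.{u}) ≤ Algebra.trdeg A' B' := by
    obtain ⟨c, hc⟩ := DimSpec.exists_indep_of_chain p l fun i => PrimeSpectrum.ext (hl i)
    rw [hl0] at hc
    have hindep : AlgebraicIndependent A' fun j => π (c j) := by
      refine algebraicIndependent_iff.mpr fun G hG => ?_
      obtain ⟨Q, rfl⟩ := MvPolynomial.map_surjective (Ideal.Quotient.mk p) Ideal.Quotient.mk_surjective G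
      by_contra hne
      obtain ⟨m, hm⟩ := MvPolynomial.ne_zero_iff.mp hne
      rw [MvPolynomial.coeff_map] at hm
      refine hc Q ⟨m, fun h => hm (Ideal.Quotient.eq_zero_iff_mem.mpr h)⟩ ?_
      rw [show Ideal.Quotient.mk p = algebraMap A A' from rfl, MvPolynomial.aeval_map_algebraMap,
        ← MvPolynomial.comp_aeval, AlgHom.comp_apply] at hG
      exact Ideal.Quotient.eq_zero_iff_mem.mp hG
    simpa using hindep.lift_cardinalMk_le_trdeg
  let S := MvPolynomial (Fin l.length) A
  letI : Algebra S B := (aeval (R := A) a).toRingHom.toAlgebra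
  let T := Algebra.adjoin A' (Set.range a')
  let φ : S →+* T := (π.toRingHom.comp (algebraMap S B)).codRestrict T fun s => by
    have h : π (aeval a s) ∈ (aeval (R := A') a').range :=
      ⟨MvPolynomial.map (Ideal.Quotient.mk p) s, haev s⟩
    rw [← Algebra.adjoin_range_eq_range_aeval] at h
    exact h
  have tr : ∀ y : B, IsIntegral S y → IsAlgebraic T (π y) := fun y hy =>
    (hy.map_of_comp_eq φ π.toRingHom (RingHom.ext fun _ => rfl)).isAlgebraic
  have hr0 : π r ≠ 0 := fun h => hrP (hqP (Ideal.Quotient.eq_zero_iff_mem.mp h))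
  haveI : Algebra.IsAlgebraic T B' := ⟨fun x => by
    obtain ⟨y, rfl⟩ := Ideal.Quotient.mk_surjective x
    obtain ⟨m, hm⟩ := hr y
    obtain ⟨n, hn⟩ := hr r
    rw [← pow_succ] at hn
    have hrint : IsIntegral S r := (IsIntegral.pow_iff n.succ_pos).mp hn
    have h1 := tr _ hm
    have h2 := tr _ (hrint.pow m)
    rw [map_mul, map_pow] at h1
    rw [map_pow] at h2
    exact IsAlgebraic.of_mul (mem_nonZeroDivisors_of_ne_zero (pow_ne_zero m hr0)) h2
      (mul_comm (π y) (π r ^ m) ▸ h1)⟩
  exact (Algebra.IsAlgebraic.isTranscendenceBasis_of_lift_le_trdeg_of_finite A' a'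
    (by simpa using hle)).1

set_option maxHeartbeats 1000000 in
/-- Lifting of the closed point of a valuation ring to a point of the generic fibre on which the
parameters vanish. -/
theorem exists_prime_valuation {A B : Type u} [CommRing A] [CommRing B] [Algebra A B] {e : ℕ}
    (a : Fin e → B) (P : Ideal B) [P.IsPrime] (ha : ∀ j, a j ∈ P) (r : B) (hrP : r ∉ P)
    (hr : letI := (aeval (R := A) a).toRingHom.toAlgebra
      ∀ x, ∃ m, IsIntegral (MvPolynomial (Fin e) A) (r ^ m * x))
    (p : Ideal A) [p.IsPrime] (hPp : P.comap (algebraMap A B) = p)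
    (q : Ideal B) [q.IsPrime] (hqP : q ≤ P) (hqp : q.comap (algebraMap A B) = p)
    (hindep : ∀ f : MvPolynomial (Fin e) A, aeval a f ∈ q → ∀ m, coeff m f ∈ p)
    (R : Type u) [CommRing R] [IsDomain R] [ValuationRing R] [Algebra A R]
    (hAR : (maximalIdeal R).comap (algebraMap A R) = p)
    (hopen : ∀ q' : Ideal (R ⊗[A] B), q'.IsPrime →
      q'.comap (Algebra.TensorProduct.includeRight (R := A) (A := R)).toRingHom = q →
      q'.comap (algebraMap R (R ⊗[A] B)) = maximalIdeal R →
      ∃ Q ≤ q', Q.IsPrime ∧ Q.comap (algebraMap R (R ⊗[A] B)) = ⊥) :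
    ∃ t P' : Ideal (R ⊗[A] B), t.IsPrime ∧ P'.IsPrime ∧ t ≤ P' ∧
      P'.comap (Algebra.TensorProduct.includeRight (R := A) (A := R)).toRingHom = P ∧
      P'.comap (algebraMap R (R ⊗[A] B)) = maximalIdeal R ∧
      t.comap (algebraMap R (R ⊗[A] B)) = ⊥ ∧ ∀ j, (1 : R) ⊗ₜ[A] a j ∈ t := by
  classical
  let A' := A ⧸ p
  let D := B ⧸ q
  let k := ResidueField R
  haveI : IsDomain A' := Ideal.Quotient.isDomain _
  haveI : IsDomain D := Ideal.Quotient.isDomain _
  letI algA'k : Algebra A' k := (Ideal.quotientMap (maximalIdeal R) (algebraMap A R) hAR.ge).toAlgebra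
  haveI : FaithfulSMul A' k := (faithfulSMul_iff_algebraMap_injective _ _).mpr
    (Ideal.quotientMap_injective' (H := hAR.ge) hAR.le)
  haveI : IsScalarTower A A' k := IsScalarTower.of_algebraMap_eq fun _ => rfl
  letI algA'D : Algebra A' D := (Ideal.quotientMap q (algebraMap A B) hqp.ge).toAlgebra
  haveI : IsScalarTower A A' D := IsScalarTower.of_algebraMap_eq fun _ => rfl
  haveI : Module.Flat A' k := by
    letI : Algebra (FractionRing A') k := FractionRing.liftAlgebra A' k
    haveI : Module.Flat A' (FractionRing A') := IsLocalization.flat _ (nonZeroDivisors A')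
    exact Module.Flat.trans A' (FractionRing A') k
  let S₀ := MvPolynomial (Fin e) A'
  let S₁ := MvPolynomial (Fin e) k
  letI : Algebra S₀ S₁ := MvPolynomial.algebraMvPolynomial
  haveI : Module.Flat S₀ S₁ :=
    Module.Flat.isBaseChange A' S₀ k S₁ (Algebra.IsPushout.out (R := A') (S := S₀) (R' := k))
  let ā : Fin e → D := fun j => Ideal.Quotient.mk q (a j)
  letI algS₀D : Algebra S₀ D := (aeval (R := A') ā).toRingHom.toAlgebra
  have hā : ∀ f : MvPolynomial (Fin e) A,
      aeval ā (MvPolynomial.map (algebraMap A A') f) = Ideal.Quotient.mk q (aeval a f) := fun f => by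
    rw [aeval_map_algebraMap]
    exact (comp_aeval_apply a (Ideal.Quotient.mkₐ A q) f).symm
  have hS₀D : Function.Injective (algebraMap S₀ D) := by
    refine (injective_iff_map_eq_zero _).mpr fun G hG => ?_
    obtain ⟨f, rfl⟩ := MvPolynomial.map_surjective (Ideal.Quotient.mk p) Ideal.Quotient.mk_surjective G
    have h1 : aeval ā (MvPolynomial.map (algebraMap A A') f) = 0 := hG
    rw [hā] at h1
    ext m
    rw [coeff_map, coeff_zero]
    exact Ideal.Quotient.eq_zero_iff_mem.mpr (hindep f (Ideal.Quotient.eq_zero_iff_mem.mp h1) m)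
  -- a point over `P` and the origin
  let Pb : Ideal D := P.map (Ideal.Quotient.mk q)
  haveI : Pb.IsPrime :=
    Ideal.map_isPrime_of_surjective Ideal.Quotient.mk_surjective (by rwa [Ideal.mk_ker])
  have hPc : Pb.comap (Ideal.Quotient.mk q) = P := by
    rw [Ideal.comap_map_of_surjective _ Ideal.Quotient.mk_surjective, ← RingHom.ker_eq_comap_bot,
      Ideal.mk_ker, sup_eq_left]
    exact hqP
  let n₁ : Ideal S₁ := RingHom.ker (constantCoeff : S₁ →+* k)
  haveI : n₁.IsPrime := RingHom.ker_isPrime _
  have hn : n₁.comap (algebraMap S₀ S₁) = Pb.comap (algebraMap S₀ D) := by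
    ext G
    obtain ⟨f, rfl⟩ := MvPolynomial.map_surjective (Ideal.Quotient.mk p) Ideal.Quotient.mk_surjective G
    rw [Ideal.mem_comap, Ideal.mem_comap, RingHom.mem_ker, MvPolynomial.algebraMap_def,
      constantCoeff_map, constantCoeff_map, map_eq_zero_iff _ (FaithfulSMul.algebraMap_injective A' k),
      Ideal.Quotient.eq_zero_iff_mem]
    show _ ↔ aeval ā (MvPolynomial.map (algebraMap A A') f) ∈ Pb
    rw [hā]
    show _ ↔ aeval a f ∈ Pb.comap (Ideal.Quotient.mk q)
    rw [hPc, ← hPp, Ideal.mem_comap]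
    have hdiff : aeval a f - algebraMap A B (constantCoeff f) ∈ P := by
      rw [show aeval a f - algebraMap A B (constantCoeff f) = aeval a (f - C (constantCoeff f)) by
        rw [map_sub, aeval_C], MvPolynomial.as_sum (f - C (constantCoeff f)), map_sum]
      refine sum_mem fun m hm => ?_
      have hm0 : m ≠ 0 := fun h0 => by
        subst h0
        exact (mem_support_iff.mp hm) (by simp [constantCoeff_eq])
      obtain ⟨i, hi⟩ := Finsupp.ne_iff.mp hm0
      obtain ⟨m', hm'⟩ : ∃ m', m = Finsupp.single i 1 + m' := ⟨m - Finsupp.single i 1,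
        (add_tsub_cancel_of_le (Finsupp.single_le_iff.mpr (Nat.one_le_iff_ne_zero.mpr hi))).symm⟩
      generalize coeff m (f - C (constantCoeff f)) = c
      rw [show monomial m c = X i * monomial m' c by rw [X, monomial_mul, one_mul, ← hm'],
        map_mul, aeval_X]
      exact Ideal.mul_mem_right _ _ (ha i)
    exact ⟨fun h => by simpa using add_mem hdiff h, fun h => by simpa using sub_mem h hdiff⟩
  let E := S₁ ⊗[S₀] D
  obtain ⟨P'', hP''⟩ : ∃ P'' : PrimeSpectrum E,
      P''.asIdeal.comap (algebraMap S₁ E) = n₁ ∧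
      P''.asIdeal.comap (Algebra.TensorProduct.includeRight (R := S₀) (A := S₁)).toRingHom = Pb := by
    obtain ⟨z, h1, h2⟩ := AlgebraicGeometry.Scheme.Pullback.exists_preimage_pullback
      (f := AlgebraicGeometry.Spec.map (CommRingCat.ofHom (algebraMap S₀ S₁)))
      (g := AlgebraicGeometry.Spec.map (CommRingCat.ofHom (algebraMap S₀ D)))
      (⟨n₁, inferInstance⟩ : PrimeSpectrum S₁) (⟨Pb, inferInstance⟩ : PrimeSpectrum D)
      (PrimeSpectrum.ext hn)
    refine ⟨(AlgebraicGeometry.pullbackSpecIso S₀ S₁ D).hom z, ?_, ?_⟩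
    · have e1 := AlgebraicGeometry.pullbackSpecIso_hom_fst S₀ S₁ D
      have := (AlgebraicGeometry.Scheme.Hom.comp_apply _ _ z).symm.trans
        (congrArg (fun φ => φ z) e1)
      exact congrArg PrimeSpectrum.asIdeal (this.trans h1)
    · have e1 := AlgebraicGeometry.pullbackSpecIso_hom_snd S₀ S₁ D
      have := (AlgebraicGeometry.Scheme.Hom.comp_apply _ _ z).symm.trans
        (congrArg (fun φ => φ z) e1)
      exact congrArg PrimeSpectrum.asIdeal (this.trans h2)
  -- a minimal prime below
  obtain ⟨q'', hq''min, hq''le⟩ := Ideal.exists_minimalPrimes_le (I := (⊥ : Ideal E))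
    (J := P''.asIdeal) bot_le
  haveI := hq''min.1.1
  have hzero : ∀ x : S₁, x ⊗ₜ[S₀] (1 : D) ∈ q'' → x = 0 := fun x hx =>
    comap_minimalPrime hS₀D q'' hq''min x hx
  have hqD : q''.comap (Algebra.TensorProduct.includeRight (R := S₀) (A := S₁)).toRingHom = ⊥ := by
    letI : Algebra D E := Algebra.TensorProduct.rightAlgebra
    haveI : Module.Flat D E := Module.Flat.isBaseChange S₀ D S₁ E
      (Algebra.IsPushout.out (R := S₀) (S := D) (R' := S₁))
    haveI : (q''.comap (algebraMap D E)).IsPrime := Ideal.comap_isPrime _ _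
    haveI : q''.LiesOver (q''.comap (algebraMap D E)) := ⟨rfl⟩
    obtain ⟨w, hw, hwp, hwo⟩ := Ideal.exists_ideal_le_liesOver_of_le (R := D)
      (p := (⊥ : Ideal D)) (q := q''.comap (algebraMap D E)) q'' bot_le
    have hwq : q'' ≤ w := hq''min.2 ⟨hwp, bot_le⟩ hw
    show q''.comap (algebraMap D E) = ⊥
    rw [le_antisymm hwq hw]
    exact hwo.over.symm
  -- the comparison map
  let BR := R ⊗[A] B
  letI : Algebra A E := ((algebraMap S₁ E).comp ((algebraMap k S₁).comp (algebraMap A k))).toAlgebra
  let f₁ : R →ₐ[A] E :=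
    { (algebraMap S₁ E).comp ((algebraMap k S₁).comp (residue R)) with commutes' := fun _ => rfl }
  have hS : ∀ G : S₀, algebraMap S₀ S₁ G = MvPolynomial.map (algebraMap A' k) G := fun G =>
    RingHom.congr_fun MvPolynomial.algebraMap_def G
  let f₂ : B →ₐ[A] E :=
    { (Algebra.TensorProduct.includeRight (R := S₀) (A := S₁)).toRingHom.comp
        (Ideal.Quotient.mk q) with
      commutes' := fun c => by
        show (1 : S₁) ⊗ₜ[S₀] Ideal.Quotient.mk q (algebraMap A B c) =
          algebraMap k S₁ (algebraMap A k c) ⊗ₜ[S₀] (1 : D)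
        rw [show algebraMap k S₁ (algebraMap A k c) = (C (algebraMap A A' c) : S₀) • (1 : S₁) by
          rw [Algebra.smul_def, mul_one, hS, map_C, ← IsScalarTower.algebraMap_apply A A' k]
          rfl, TensorProduct.smul_tmul]
        congr 1
        rw [Algebra.smul_def, mul_one, RingHom.algebraMap_toAlgebra]
        show _ = aeval ā (C (algebraMap A A' c))
        rw [aeval_C]
        rfl }
  let φ : BR →ₐ[A] E := Algebra.TensorProduct.lift f₁ f₂ fun _ _ => Commute.all _ _
  have hφB : φ.toRingHom.comp (Algebra.TensorProduct.includeRight (R := A) (A := R)).toRingHom =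
      (Algebra.TensorProduct.includeRight (R := S₀) (A := S₁)).toRingHom.comp (Ideal.Quotient.mk q) :=
    RingHom.ext fun b => by
      show φ ((1 : R) ⊗ₜ[A] b) = f₂ b
      exact (Algebra.TensorProduct.lift_tmul f₁ f₂ _ 1 b).trans (by rw [map_one, one_mul])
  have hφR : φ.toRingHom.comp (algebraMap R BR) =
      (algebraMap S₁ E).comp ((algebraMap k S₁).comp (residue R)) :=
    RingHom.ext fun c => by
      show φ (c ⊗ₜ[A] (1 : B)) = f₁ c
      exact (Algebra.TensorProduct.lift_tmul f₁ f₂ _ c 1).trans (by rw [map_one, mul_one])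
  have hmR : ∀ I : Ideal E, I.IsPrime →
      (I.comap φ.toRingHom).comap (algebraMap R BR) = maximalIdeal R := fun I hI => by
    rw [Ideal.comap_comap, hφR, ← Ideal.comap_comap, ← Ideal.comap_comap,
      Ideal.eq_bot_of_prime ((I.comap (algebraMap S₁ E)).comap (algebraMap k S₁)),
      ← RingHom.ker_eq_comap_bot, ker_residue]
  let P' : Ideal BR := P''.asIdeal.comap φ.toRingHom
  let q' : Ideal BR := q''.comap φ.toRingHom
  haveI : P'.IsPrime := Ideal.comap_isPrime _ _
  haveI : q'.IsPrime := Ideal.comap_isPrime _ _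
  have hP'P : P'.comap (Algebra.TensorProduct.includeRight (R := A) (A := R)).toRingHom = P := by
    rw [Ideal.comap_comap, hφB, ← Ideal.comap_comap, hP''.2, hPc]
  have hq'q : q'.comap (Algebra.TensorProduct.includeRight (R := A) (A := R)).toRingHom = q := by
    rw [Ideal.comap_comap, hφB, ← Ideal.comap_comap, hqD, ← RingHom.ker_eq_comap_bot, Ideal.mk_ker]
  obtain ⟨Q, hQq, hQp, hQR⟩ := hopen q' inferInstance hq'q (hmR q'' inferInstance)
  -- the valuation ring statement
  let aR : Fin e → BR := fun j => (1 : R) ⊗ₜ[A] a j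
  have haR : ∀ j, aR j ∈ P' := fun j => by
    have h : a j ∈ P'.comap (Algebra.TensorProduct.includeRight (R := A) (A := R)).toRingHom :=
      hP'P.symm ▸ ha j
    exact h
  letI algSB : Algebra (MvPolynomial (Fin e) A) B := (aeval (R := A) a).toRingHom.toAlgebra
  letI algSR : Algebra (MvPolynomial (Fin e) R) BR := (aeval (R := R) aR).toRingHom.toAlgebra
  let ρ : B →+* BR := (Algebra.TensorProduct.includeRight (R := A) (A := R)).toRingHom
  have hρ : (algebraMap (MvPolynomial (Fin e) R) BR).comp (MvPolynomial.map (algebraMap A R)) =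
      ρ.comp (algebraMap (MvPolynomial (Fin e) A) B) := by
    refine MvPolynomial.ringHom_ext (fun c => ?_) (fun j => ?_)
    · show aeval aR (MvPolynomial.map (algebraMap A R) (C c)) = (1 : R) ⊗ₜ[A] aeval a (C c)
      rw [map_C, aeval_C, aeval_C, Algebra.TensorProduct.algebraMap_apply]
      exact (Algebra.TensorProduct.tmul_one_eq_one_tmul c)
    · show aeval aR (MvPolynomial.map (algebraMap A R) (X j)) = (1 : R) ⊗ₜ[A] aeval a (X j)
      rw [map_X, aeval_X, aeval_X]
  have hint : ∀ b, IsIntegral (MvPolynomial (Fin e) A) b → IsIntegral (MvPolynomial (Fin e) R) (ρ b) :=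
    fun b hb => hb.map_of_comp_eq _ ρ hρ
  have hrint : IsIntegral (MvPolynomial (Fin e) A) r := by
    obtain ⟨m, hm⟩ := hr r
    rw [← pow_succ] at hm
    exact (IsIntegral.pow_iff m.succ_pos).mp hm
  have hrR : ∀ x : BR, ∃ m, IsIntegral (MvPolynomial (Fin e) R) (ρ r ^ m * x) := fun x => by
    induction x using TensorProduct.induction_on with
    | zero => exact ⟨0, by rw [mul_zero]; exact isIntegral_zero⟩
    | tmul c b =>
      obtain ⟨m, hm⟩ := hr b
      refine ⟨m, ?_⟩
      rw [show ρ r ^ m * c ⊗ₜ[A] b = algebraMap (MvPolynomial (Fin e) R) BR (C c) * ρ (r ^ m * b) by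
        rw [map_mul, map_pow]
        show _ = aeval aR (C c) * (ρ r ^ m * ρ b)
        rw [aeval_C]
        show ((1 : R) ⊗ₜ[A] r) ^ m * c ⊗ₜ[A] b = (c ⊗ₜ[A] (1 : B)) * (((1 : R) ⊗ₜ[A] r) ^ m * (1 : R) ⊗ₜ[A] b)
        simp only [Algebra.TensorProduct.tmul_mul_tmul, Algebra.TensorProduct.tmul_pow, one_pow,
          one_mul, mul_one]]
      exact isIntegral_algebraMap.mul (hint _ hm)
    | add x y hx hy =>
      obtain ⟨m, hm⟩ := hx
      obtain ⟨n, hn⟩ := hy
      refine ⟨m + n, ?_⟩
      rw [show ρ r ^ (m + n) * (x + y) = ρ r ^ n * (ρ r ^ m * x) + ρ r ^ m * (ρ r ^ n * y) by ring]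
      exact (((hint r hrint).pow n).mul hm).add (((hint r hrint).pow m).mul hn)
  have hq'indep : ∀ f : MvPolynomial (Fin e) R, aeval aR f ∈ q' →
      ∀ m, coeff m f ∈ maximalIdeal R := fun f hf m => by
    have h1 : φ.toRingHom.comp (aeval (R := R) aR).toRingHom =
        (algebraMap S₁ E).comp (MvPolynomial.map (residue R)) := by
      refine MvPolynomial.ringHom_ext (fun c => ?_) (fun j => ?_)
      · show φ (aeval aR (C c)) = algebraMap S₁ E (MvPolynomial.map (residue R) (C c))
        rw [aeval_C, map_C]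
        exact RingHom.congr_fun hφR c
      · show φ (aeval aR (X j)) = algebraMap S₁ E (MvPolynomial.map (residue R) (X j))
        rw [aeval_X, map_X]
        show φ ((1 : R) ⊗ₜ[A] a j) = (X j : S₁) ⊗ₜ[S₀] (1 : D)
        rw [show φ ((1 : R) ⊗ₜ[A] a j) = (1 : S₁) ⊗ₜ[S₀] ā j from RingHom.congr_fun hφB (a j),
          show (X j : S₁) = (X j : S₀) • (1 : S₁) by rw [Algebra.smul_def, mul_one, hS, map_X],
          TensorProduct.smul_tmul]
        congr 1
        rw [Algebra.smul_def, mul_one, RingHom.algebraMap_toAlgebra]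
        exact (aeval_X ā j).symm
    have h2 : MvPolynomial.map (residue R) f ⊗ₜ[S₀] (1 : D) ∈ q'' := by
      have : (φ.toRingHom.comp (aeval (R := R) aR).toRingHom) f ∈ q'' := hf
      rw [h1] at this
      exact this
    have h3 := congrArg (coeff m) (hzero _ h2)
    rw [coeff_map, coeff_zero, residue_eq_zero_iff] at h3
    exact h3
  have hrP' : ρ r ∉ P' := fun h => hrP (hP'P ▸ Ideal.mem_comap.mpr h)
  obtain ⟨t, ht, htP, htR, hat⟩ := exists_prime_generic aR P' haR (ρ r) hrP' hrR q'
    (Ideal.comap_mono hq''le) hq'indep Q hQq hQR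
  exact ⟨t, P', ht, inferInstance, htP, hP'P, hmR P''.asIdeal inferInstance, htR, hat⟩

end Groth.Agent.QSect27
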